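import Cfsg.Agent.S3056
import Cfsg.Agent.Lib.Helper33.AGInduction
import Cfsg.Agent.Lib.Helper47.Subn
import Cfsg.Agent.Lib.Helper54.PConstr1

/-!
# The conditions on the subgroups `H i` in the strong Alperin–Goldschmidt theorem,
and their invariance under conjugation.
-/

set_option autoImplicit false
set_option linter.unusedSectionVars false
set_option linter.unusedVariables false

namespace Cfsg.Agent.Lib.Helper11.AGStrong

open Cfsg Subgroup
open Cfsg.Agent.Lib.Helper33 (cj cj_def mem_cj mem_cj' card_cj cj_mul cj_mono cj_inf cj_sup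
  cj_eq_self_iff cj_eq_smul cj_eq_bot_iff isPGroup_cj sylow_sub normalizer_cj centralizer_cj
  relIndex_cj FN FN_cj lG kG agFamily conj_mem_cj cj_inv_cj cj_cj_inv cj_le_iff)

variable {G : Type*} [Group G]

/-- The conditions on a triple `(H, X, x)` (relative to `P`). -/
structure Cond (p : ℕ) (P H X : Subgroup G) (x : G) : Prop where
  le : H ≤ P
  fn : FN p P H
  cent : P ⊓ centralizer (H : Set G) ≤ H
  lg : lG p H = H ⊔ centralizer (H : Set G)
  ncc : ¬ IsSylowChainConnected p
    (↥(normalizer (H : Set G)) ⧸ H.subgroupOf (normalizer (H : Set G)))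
  hX : H ≤ X
  XN : X ≤ normalizer (H : Set G)
  Xn : normalizer (H : Set G) ≤ normalizer (X : Set G)
  Xp : p ∣ H.relIndex X
  Xmin : ∀ Y : Subgroup G, H ≤ Y → Y ≤ normalizer (H : Set G) →
    normalizer (H : Set G) ≤ normalizer (Y : Set G) → p ∣ H.relIndex Y → X ≤ Y
  mem : x ∈ (pResidual p ↥X).map X.subtype

/-! ### Transport of strongly embedded subgroups along an isomorphism -/

section se

variable {Γ Γ' : Type*} [Group Γ] [Group Γ']

/-- strongly `p`-embedded subgroup, classical form -/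
def SE (p : ℕ) (H : Subgroup Γ) : Prop :=
  H ≠ ⊤ ∧ p ∣ Nat.card H ∧
    ∀ g : Γ, g ∉ H → ¬ p ∣ Nat.card ↥(H ⊓ H.map (MulAut.conj g).toMonoidHom)

theorem SE.map {p : ℕ} (e : Γ ≃* Γ') {H : Subgroup Γ} (h : SE p H) :
    SE p (H.map e.toMonoidHom) := by
  obtain ⟨h1, h2, h3⟩ := h
  refine ⟨?_, ?_, ?_⟩
  · intro htop
    apply h1
    rw [eq_top_iff]
    intro x _
    have : e x ∈ H.map e.toMonoidHom := by rw [htop]; exact mem_top _
    obtain ⟨y, hy, hyx⟩ := this
    have : y = x := e.injective hyx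
    rwa [← this]
  · rw [Subgroup.card_map_of_injective (f := e.toMonoidHom) e.injective]; exact h2
  · intro g' hg'
    obtain ⟨g, rfl⟩ := e.surjective g'
    have hg : g ∉ H := fun hg => hg' ⟨g, hg, rfl⟩
    have heq : H.map e.toMonoidHom ⊓ (H.map e.toMonoidHom).map (MulAut.conj (e g)).toMonoidHom =
        (H ⊓ H.map (MulAut.conj g).toMonoidHom).map e.toMonoidHom := by
      ext z
      constructor
      · rintro ⟨⟨a, ha, rfl⟩, ⟨_, ⟨b, hb, rfl⟩, hz⟩⟩
        refine ⟨a, ⟨ha, b, hb, ?_⟩, rfl⟩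
        apply e.injective
        simp only [MulEquiv.coe_toMonoidHom, MulAut.conj_apply, map_mul, map_inv] at hz ⊢
        exact hz
      · rintro ⟨a, ⟨ha, b, hb, hab⟩, rfl⟩
        refine ⟨⟨a, ha, rfl⟩, ⟨e b, ⟨b, hb, rfl⟩, ?_⟩⟩
        simp only [MulEquiv.coe_toMonoidHom, MulAut.conj_apply] at hab ⊢
        rw [← hab]
        simp
    rw [heq, Subgroup.card_map_of_injective (f := e.toMonoidHom) e.injective]
    exact h3 g hg

theorem isSylowChainConnected_of_equiv [Finite Γ] [Finite Γ'] {p : ℕ} [Fact p.Prime]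
    (e : Γ ≃* Γ') (h : IsSylowChainConnected p Γ') : IsSylowChainConnected p Γ := by
  by_contra hn
  obtain ⟨H, hH⟩ := (Cfsg.Agent.S3056.result p).mp hn
  have h1 : SE p (H.map e.toMonoidHom) := SE.map e hH
  exact ((Cfsg.Agent.S3056.result p).mpr ⟨_, h1⟩) h

end se

/-! ### Transport of `O_{p',p}(N_G(U))` -/

/-- conjugation as an isomorphism between normalizers -/
noncomputable def normEquiv (y : G) (U : Subgroup G) :
    ↥(normalizer (U : Set G)) ≃* ↥(normalizer ((cj y U : Subgroup G) : Set G)) :=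
  ((MulAut.conj y).subgroupMap (normalizer (U : Set G))).trans
    (MulEquiv.subgroupCongr (normalizer_cj y U).symm)

theorem normEquiv_coe (y : G) (U : Subgroup G) (n : ↥(normalizer (U : Set G))) :
    ((normEquiv y U n : ↥(normalizer ((cj y U : Subgroup G) : Set G))) : G) = y * n * y⁻¹ := rfl

theorem lG_cj [Finite G] {p : ℕ} [Fact p.Prime] (y : G) (U : Subgroup G) :
    lG p (cj y U) = cj y (lG p U) := by
  unfold lG
  have hker : (Nat.card (normEquiv y U).toMonoidHom.ker).Coprime p := by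
    have : (normEquiv y U).toMonoidHom.ker = ⊥ :=
      (MonoidHom.ker_eq_bot_iff _).mpr (normEquiv y U).injective
    rw [this, Subgroup.card_bot]
    exact Nat.coprime_one_left p
  have h1 := Cfsg.Agent.Lib.Helper54.map_pPrimePCore p (normEquiv y U).toMonoidHom
    (normEquiv y U).surjective hker
  have h2 : (pPrimePCore p ↥(normalizer ((cj y U : Subgroup G) : Set G))).map
      (normalizer ((cj y U : Subgroup G) : Set G)).subtype =
      ((pPrimePCore p ↥(normalizer (U : Set G))).map (normEquiv y U).toMonoidHom).map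
        (normalizer ((cj y U : Subgroup G) : Set G)).subtype := by rw [h1]
  rw [h2, Subgroup.map_map]
  show _ = ((pPrimePCore p ↥(normalizer (U : Set G))).map (normalizer (U : Set G)).subtype).map
    (MulAut.conj y).toMonoidHom
  rw [Subgroup.map_map]
  rfl

/-! ### Transport of the quotient `N_G(U)/U` -/

theorem map_normEquiv_subgroupOf (y : G) (U : Subgroup G) :
    (U.subgroupOf (normalizer (U : Set G))).map (normEquiv y U).toMonoidHom =
      (cj y U).subgroupOf (normalizer ((cj y U : Subgroup G) : Set G)) := by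
  ext z
  rw [mem_subgroupOf]
  constructor
  · rintro ⟨n, hn, rfl⟩
    rw [SetLike.mem_coe, mem_subgroupOf] at hn
    show ((normEquiv y U n : ↥(normalizer ((cj y U : Subgroup G) : Set G))) : G) ∈ cj y U
    rw [normEquiv_coe]
    exact conj_mem_cj hn
  · intro hz
    obtain ⟨n, rfl⟩ := (normEquiv y U).surjective z
    refine ⟨n, ?_, rfl⟩
    rw [SetLike.mem_coe, mem_subgroupOf]
    have : ((normEquiv y U n : ↥(normalizer ((cj y U : Subgroup G) : Set G))) : G) ∈ cj y U := hz
    rw [normEquiv_coe, Cfsg.Agent.Lib.Helper33.conj_mem_cj_iff] at this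
    exact this

/-- the induced isomorphism of quotients -/
noncomputable def quotEquiv (y : G) (U : Subgroup G) :
    (↥(normalizer (U : Set G)) ⧸ U.subgroupOf (normalizer (U : Set G))) ≃*
      (↥(normalizer ((cj y U : Subgroup G) : Set G)) ⧸
        (cj y U).subgroupOf (normalizer ((cj y U : Subgroup G) : Set G))) :=
  QuotientGroup.congr _ _ (normEquiv y U) (map_normEquiv_subgroupOf y U)

/-! ### Transport of the `p`-residual -/

theorem conj_mem_map_pResidual {p : ℕ} (y : G) {X : Subgroup G} {x : G}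
    (hx : x ∈ (pResidual p ↥X).map X.subtype) :
    y * x * y⁻¹ ∈ (pResidual p ↥(cj y X)).map (cj y X).subtype := by
  rw [Cfsg.Agent.Lib.Helper47.pResidual_map_subtype] at hx ⊢
  unfold Cfsg.Agent.Lib.Helper47.pPrimeClosure at hx ⊢
  have h1 : (MulAut.conj y).toMonoidHom x ∈
      (closure {a : G | a ∈ X ∧ Nat.Coprime (orderOf a) p}).map (MulAut.conj y).toMonoidHom :=
    Subgroup.mem_map_of_mem _ hx
  rw [MonoidHom.map_closure] at h1
  have h2 : (MulAut.conj y).toMonoidHom '' {a : G | a ∈ X ∧ Nat.Coprime (orderOf a) p} ⊆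
      {a : G | a ∈ cj y X ∧ Nat.Coprime (orderOf a) p} := by
    rintro _ ⟨a, ⟨ha, hao⟩, rfl⟩
    refine ⟨conj_mem_cj ha, ?_⟩
    show Nat.Coprime (orderOf (MulAut.conj y a)) p
    rw [MulEquiv.orderOf_eq]
    exact hao
  exact Subgroup.closure_mono h2 h1

/-! ### Invariance of `Cond` under conjugation -/

theorem Cond.conj [Finite G] {p : ℕ} [Fact p.Prime] {P H X : Subgroup G} {x : G}
    (h : Cond p P H X x) {y : G} (hy : y ∈ normalizer (P : Set G)) :
    Cond p P (cj y H) (cj y X) (y * x * y⁻¹) := by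
  have hP : cj y P = P := cj_eq_self_iff.mpr hy
  refine ⟨?_, ?_, ?_, ?_, ?_, ?_, ?_, ?_, ?_, ?_, ?_⟩
  · rw [← hP]; exact cj_mono h.le
  · have := FN_cj y h.fn
    rwa [hP] at this
  · rw [centralizer_cj, ← hP, ← cj_inf]
    exact cj_mono h.cent
  · rw [lG_cj, h.lg, cj_sup, centralizer_cj]
  · intro hc
    exact h.ncc (isSylowChainConnected_of_equiv (quotEquiv y H) hc)
  · exact cj_mono h.hX
  · rw [normalizer_cj]; exact cj_mono h.XN
  · rw [normalizer_cj, normalizer_cj]; exact cj_mono h.Xn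
  · rw [relIndex_cj]; exact h.Xp
  · intro Y h1 h2 h3 h4
    rw [cj_le_iff]
    apply h.Xmin
    · have := cj_mono (g := y⁻¹) h1
      rwa [cj_inv_cj] at this
    · have := cj_mono (g := y⁻¹) h2
      rwa [normalizer_cj, cj_inv_cj] at this
    · have := cj_mono (g := y⁻¹) h3
      rwa [normalizer_cj, cj_inv_cj, ← normalizer_cj] at this
    · have := relIndex_cj y⁻¹ (cj y H) Y
      rw [cj_inv_cj] at this
      rw [this]; exact h4
  · exact conj_mem_map_pResidual y h.mem

end Cfsg.Agent.Lib.Helper11.AGStrong
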