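import Cfsg.Agent.S3056
import Cfsg.Agent.Lib.Helper33.Control
import Cfsg.Agent.Lib.Helper17.PGroupNorm

/-!
# Generation by normalizers in a Sylow-chain-connected group

If the Sylow `p`-subgroups of a finite group `Γ` are chain-connected and `T` is a nontrivial
Sylow `p`-subgroup, then `Γ` is generated by the normalizers of the nontrivial subgroups of `T`.
-/

set_option autoImplicit false
set_option linter.unusedSectionVars false

namespace Cfsg.Agent.Lib.Helper11.AGStrong

open Cfsg Subgroup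
open Cfsg.Agent.Lib.Helper33 (cj cj_def mem_cj mem_cj' card_cj cj_mul cj_mono cj_inf cj_eq_self_iff
  cj_eq_smul cj_eq_bot_iff isPGroup_cj sylow_sub)

variable {Γ : Type*} [Group Γ]

/-- The generating set: normalizers of nontrivial subgroups of `T`. -/
def gens (T : Subgroup Γ) : Set Γ :=
  {n | ∃ Q : Subgroup Γ, Q ≤ T ∧ Q ≠ ⊥ ∧ n ∈ normalizer (Q : Set Γ)}

theorem gens_inv {T : Subgroup Γ} {n : Γ} (h : n ∈ gens T) : n⁻¹ ∈ gens T := by
  obtain ⟨Q, h1, h2, h3⟩ := h
  exact ⟨Q, h1, h2, inv_mem h3⟩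

theorem normalizer_le_closure_gens {T Q : Subgroup Γ} (h1 : Q ≤ T) (h2 : Q ≠ ⊥) :
    normalizer (Q : Set Γ) ≤ closure (gens T) :=
  fun _ hn => subset_closure ⟨Q, h1, h2, hn⟩

variable [Finite Γ] {p : ℕ} [hp : Fact p.Prime]

theorem card_lt_of_lt {D K : Subgroup Γ} (h : D < K) : Nat.card D < Nat.card K :=
  lt_of_le_of_ne (Subgroup.card_le_of_le h.le)
    (fun e => h.ne (Subgroup.eq_of_le_of_card_ge h.le e.ge))

/-- Key step: if `T ∩ T^g ≠ 1` then `g` lies in the subgroup generated by the normalizers. -/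
theorem mem_closure_of_inf_ne_bot (T : Sylow p Γ) :
    ∀ (k : ℕ) (g : Γ), Nat.card (T : Subgroup Γ) - Nat.card ((T : Subgroup Γ) ⊓ cj g T : Subgroup Γ) = k →
      (T : Subgroup Γ) ⊓ cj g T ≠ ⊥ → g ∈ closure (gens (T : Subgroup Γ)) := by
  intro k
  induction k using Nat.strong_induction_on with
  | _ k ih =>
  intro g hk hne
  obtain ⟨D, hD⟩ : ∃ D : Subgroup Γ, D = (T : Subgroup Γ) ⊓ cj g T := ⟨_, rfl⟩
  rw [← hD] at hk hne
  have hDT : D ≤ (T : Subgroup Γ) := hD ▸ inf_le_left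
  have hDg : D ≤ cj g (T : Subgroup Γ) := hD ▸ inf_le_right
  have hND : normalizer (D : Set Γ) ≤ closure (gens (T : Subgroup Γ)) :=
    normalizer_le_closure_gens hDT hne
  have hTp : IsPGroup p (T : Subgroup Γ) := T.isPGroup'
  have hgTp : IsPGroup p (cj g (T : Subgroup Γ)) := isPGroup_cj hTp
  by_cases hDeq : D = (T : Subgroup Γ)
  · -- then `g` normalizes `T`
    have h1 : (T : Subgroup Γ) ≤ cj g T := hDeq ▸ hDg
    have h2 : (T : Subgroup Γ) = cj g T :=
      Subgroup.eq_of_le_of_card_ge h1 (by rw [card_cj])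
    have h3 : g ∈ normalizer ((T : Subgroup Γ) : Set Γ) := cj_eq_self_iff.mp h2.symm
    exact normalizer_le_closure_gens le_rfl (hDeq ▸ hne) h3
  · have hDltT : D < (T : Subgroup Γ) := lt_of_le_of_ne hDT hDeq
    have hDltg : D < cj g (T : Subgroup Γ) := by
      refine lt_of_le_of_ne hDg ?_
      intro h
      apply hDeq
      have h1 : cj g (T : Subgroup Γ) ≤ T := h ▸ hDT
      have h2 : cj g (T : Subgroup Γ) = T :=
        Subgroup.eq_of_le_of_card_ge h1 (by rw [card_cj])
      rw [h, h2]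
    -- normalizers grow
    have hN1 := Cfsg.Agent.Lib.Helper17.lt_inf_normalizer_of_lt _ D hTp hDltT
    have hN2 := Cfsg.Agent.Lib.Helper17.lt_inf_normalizer_of_lt _ D hgTp hDltg
    -- a Sylow subgroup `R` of `N(D)` containing `N_T(D)`
    obtain ⟨R, hR1, hR2, hRp, hRi⟩ := Cfsg.Agent.Lib.Helper33.exists_sylow_ge
      (K := normalizer (D : Set Γ)) (H := (T : Subgroup Γ) ⊓ normalizer (D : Set Γ)) inf_le_right
      (hTp.to_le inf_le_left)
    -- `R ≤ T^a`
    obtain ⟨a', ha'⟩ := hRp.exists_le_sylow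
    obtain ⟨a, ha⟩ := MulAction.exists_smul_eq Γ T a'
    have hRa : R ≤ cj a (T : Subgroup Γ) := by
      rw [cj_eq_smul, ← Sylow.coe_subgroup_smul, ha]; exact ha'
    have hcardD : Nat.card D < Nat.card ((T : Subgroup Γ) ⊓ normalizer (D : Set Γ) : Subgroup Γ) :=
      card_lt_of_lt hN1
    have hcardT : ∀ H : Subgroup Γ, H ≤ T → Nat.card H ≤ Nat.card (T : Subgroup Γ) :=
      fun H h => Subgroup.card_le_of_le h
    -- `a` is in the closure by induction
    have haM : a ∈ closure (gens (T : Subgroup Γ)) := by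
      have hle : (T : Subgroup Γ) ⊓ normalizer (D : Set Γ) ≤ (T : Subgroup Γ) ⊓ cj a T :=
        le_inf inf_le_left (le_trans hR1 hRa)
      have hc1 := Subgroup.card_le_of_le hle
      have hc2 := hcardT _ (inf_le_left : (T : Subgroup Γ) ⊓ cj a T ≤ T)
      have hc3 := hcardT D hDT
      refine ih _ ?_ a rfl ?_
      · omega
      · intro h
        rw [h] at hc1
        have : Nat.card (⊥ : Subgroup Γ) = 1 := Subgroup.card_bot
        have hDpos : 0 < Nat.card D := Nat.card_pos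
        omega
    -- conjugate `N_{T^g}(D)` into `R`
    obtain ⟨n, hn, hnR⟩ := sylow_sub hR2 hRp hRi
      (inf_le_right : cj g (T : Subgroup Γ) ⊓ normalizer (D : Set Γ) ≤ normalizer (D : Set Γ))
      (hgTp.to_le inf_le_left)
    have hnM : n ∈ closure (gens (T : Subgroup Γ)) := hND hn
    -- `N_{T^g}(D) ≤ T^{n⁻¹ a}`
    have h4 : cj g (T : Subgroup Γ) ⊓ normalizer (D : Set Γ) ≤ cj (n⁻¹ * a) (T : Subgroup Γ) := by
      have := cj_mono (g := n⁻¹) (le_trans hnR hRa)
      rwa [Cfsg.Agent.Lib.Helper33.cj_inv_cj, ← cj_mul] at this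
    -- apply `g⁻¹`
    have h5 : cj g⁻¹ (cj g (T : Subgroup Γ) ⊓ normalizer (D : Set Γ)) ≤
        (T : Subgroup Γ) ⊓ cj (g⁻¹ * (n⁻¹ * a)) (T : Subgroup Γ) := by
      apply le_inf
      · have := cj_mono (g := g⁻¹) (inf_le_left : cj g (T : Subgroup Γ) ⊓ normalizer (D : Set Γ) ≤ _)
        rwa [Cfsg.Agent.Lib.Helper33.cj_inv_cj] at this
      · rw [cj_mul]; exact cj_mono h4
    have hcardD2 : Nat.card D <
        Nat.card (cj g (T : Subgroup Γ) ⊓ normalizer (D : Set Γ) : Subgroup Γ) :=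
      card_lt_of_lt hN2
    have hbM : g⁻¹ * (n⁻¹ * a) ∈ closure (gens (T : Subgroup Γ)) := by
      have hc1 := Subgroup.card_le_of_le h5
      rw [card_cj] at hc1
      have hc2 := hcardT _ (inf_le_left : (T : Subgroup Γ) ⊓ cj (g⁻¹ * (n⁻¹ * a)) T ≤ T)
      have hc3 := hcardT D hDT
      refine ih _ ?_ _ rfl ?_
      · omega
      · intro h
        rw [h] at hc1
        have : Nat.card (⊥ : Subgroup Γ) = 1 := Subgroup.card_bot
        have hDpos : 0 < Nat.card D := Nat.card_pos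
        omega
    have : g = n⁻¹ * a * (g⁻¹ * (n⁻¹ * a))⁻¹ := by group
    rw [this]
    exact mul_mem (mul_mem (inv_mem hnM) haM) (inv_mem hbM)

/-- **Generation lemma.** In a finite group whose Sylow `p`-subgroups are chain-connected, every
element is a product of elements normalizing nontrivial subgroups of a fixed Sylow `p`-subgroup. -/
theorem mem_closure_gens_of_connected (hconn : IsSylowChainConnected p Γ) (T : Sylow p Γ)
    (hT : (T : Subgroup Γ) ≠ ⊥) (γ : Γ) : γ ∈ closure (gens (T : Subgroup Γ)) := by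
  have hc := (Cfsg.Agent.S3056.connected_iff.mp hconn) T (γ • T)
  -- every Sylow subgroup connected to `T` is `b • T` with `b` in the closure
  have key : ∀ S : Sylow p Γ, Cfsg.Agent.S3056.Conn p T S →
      ∃ b ∈ closure (gens (T : Subgroup Γ)), S = b • T := by
    intro S hS
    induction hS with
    | refl => exact ⟨1, one_mem _, by simp⟩
    | @tail b₀ c _ hbc ih =>
      obtain ⟨b, hb, rfl⟩ := ih
      obtain ⟨d, hd⟩ := MulAction.exists_smul_eq Γ T c
      refine ⟨d, ?_, hd.symm⟩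
      have h1 : ((b • T : Sylow p Γ) : Subgroup Γ) ⊓ ((c : Sylow p Γ) : Subgroup Γ) ≠ ⊥ := hbc.2
      rw [← hd, Sylow.coe_subgroup_smul, Sylow.coe_subgroup_smul, ← cj_eq_smul, ← cj_eq_smul] at h1
      have h2 : (T : Subgroup Γ) ⊓ cj (b⁻¹ * d) (T : Subgroup Γ) ≠ ⊥ := by
        intro h
        apply h1
        have : cj b ((T : Subgroup Γ) ⊓ cj (b⁻¹ * d) (T : Subgroup Γ)) = ⊥ := by
          rw [h]; exact Cfsg.Agent.Lib.Helper33.cj_bot b
        rwa [cj_inf, ← cj_mul, mul_inv_cancel_left] at this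
      have h3 := mem_closure_of_inf_ne_bot T _ (b⁻¹ * d) rfl h2
      have : d = b * (b⁻¹ * d) := by group
      rw [this]
      exact mul_mem hb h3
  obtain ⟨b, hb, hγ⟩ := key _ hc
  have h1 : (b⁻¹ * γ) • T = T := by
    rw [mul_smul, hγ, inv_smul_smul]
  have h2 : b⁻¹ * γ ∈ normalizer ((T : Subgroup Γ) : Set Γ) :=
    Sylow.smul_eq_iff_mem_normalizer.mp h1
  have h3 : b⁻¹ * γ ∈ closure (gens (T : Subgroup Γ)) :=
    normalizer_le_closure_gens le_rfl hT h2
  have : γ = b * (b⁻¹ * γ) := by group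
  rw [this]
  exact mul_mem hb h3

end Cfsg.Agent.Lib.Helper11.AGStrong
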