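import Cfsg.Agent.Lib.Helper11.AGStrong.Cond

/-!
# Chains of good conjugations for the strong Alperin–Goldschmidt theorem
-/

set_option autoImplicit false
set_option linter.unusedSectionVars false
set_option linter.unusedVariables false

namespace Cfsg.Agent.Lib.Helper11.AGStrong

open Cfsg Subgroup
open Cfsg.Agent.Lib.Helper33 (cj cj_def mem_cj mem_cj' card_cj cj_mul cj_mono cj_inf cj_sup
  cj_eq_self_iff cj_eq_smul cj_eq_bot_iff isPGroup_cj sylow_sub normalizer_cj centralizer_cj
  relIndex_cj FN FN_cj lG kG agFamily conj_mem_cj cj_inv_cj cj_cj_inv cj_le_iff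
  rc rc_def mem_rc conj_mem_rc rc_one rc_mul rc_mono rc_coe rc_subset_of_mem_normalizer
  rc_of_mem_centralizer)

variable {G : Type*} [Group G]

/-- the list entries: `(H, X, x)` -/
abbrev Trip (G : Type*) [Group G] := Subgroup G × Subgroup G × G

/-- product of the third components -/
def prodx (l : List (Trip G)) : G := (l.map (fun t => t.2.2)).prod

@[simp] theorem prodx_nil : prodx ([] : List (Trip G)) = 1 := rfl

@[simp] theorem prodx_cons (t : Trip G) (l : List (Trip G)) :
    prodx (t :: l) = t.2.2 * prodx l := by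
  unfold prodx; simp

theorem prodx_append (l₁ l₂ : List (Trip G)) : prodx (l₁ ++ l₂) = prodx l₁ * prodx l₂ := by
  unfold prodx; simp

/-- a chain of good steps starting from `A` -/
inductive Chain (p : ℕ) (P : Subgroup G) : Set G → List (Trip G) → Prop
  | nil (A : Set G) : Chain p P A []
  | cons {A : Set G} {H X : Subgroup G} {x : G} {l : List (Trip G)} :
      Cond p P H X x → A ⊆ (H : Set G) → Chain p P (rc x A) l → Chain p P A ((H, X, x) :: l)

variable {p : ℕ} {P : Subgroup G}

theorem Chain.mono {A B : Set G} {l : List (Trip G)} (h : Chain p P A l) (hBA : B ⊆ A) :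
    Chain p P B l := by
  induction h generalizing B with
  | nil A => exact Chain.nil B
  | cons hc hA _ ih => exact Chain.cons hc (hBA.trans hA) (ih (rc_mono hBA))

theorem Chain.append {A : Set G} {l₁ l₂ : List (Trip G)} (h1 : Chain p P A l₁)
    (h2 : Chain p P (rc (prodx l₁) A) l₂) : Chain p P A (l₁ ++ l₂) := by
  induction h1 with
  | nil A => simpa using h2
  | cons hc hA _ ih =>
    rw [List.cons_append]
    refine Chain.cons hc hA (ih ?_)
    rw [prodx_cons, rc_mul] at h2
    exact h2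

/-- conjugate a triple by `y` -/
def conjT (y : G) (t : Trip G) : Trip G := (cj y t.1, cj y t.2.1, y * t.2.2 * y⁻¹)

theorem prodx_map_conjT (y : G) (l : List (Trip G)) :
    prodx (l.map (conjT y)) = y * prodx l * y⁻¹ := by
  induction l with
  | nil => simp
  | cons t l ih =>
    rw [List.map_cons, prodx_cons, prodx_cons, ih]
    show y * t.2.2 * y⁻¹ * _ = _
    group

theorem Chain.conj [Finite G] [Fact p.Prime] {A : Set G} {l : List (Trip G)}
    (h : Chain p P A l) {y : G} (hy : y ∈ normalizer (P : Set G)) :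
    Chain p P (rc y⁻¹ A) (l.map (conjT y)) := by
  induction h with
  | nil A => exact Chain.nil _
  | @cons A H X x l hc hA _ ih =>
    rw [List.map_cons]
    show Chain p P (rc y⁻¹ A) ((cj y H, cj y X, y * x * y⁻¹) :: l.map (conjT y))
    refine Chain.cons (hc.conj hy) ?_ ?_
    · intro a ha
      rw [mem_rc, inv_inv] at ha
      have := hA ha
      rw [SetLike.mem_coe, mem_cj]
      exact this
    · have e : rc (y * x * y⁻¹) (rc y⁻¹ A) = rc y⁻¹ (rc x A) := by
        rw [← rc_mul, ← rc_mul]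
        congr 1
        group
      rw [e]
      exact ih

theorem Chain.get {A : Set G} {l : List (Trip G)} (h : Chain p P A l) :
    ∀ (i : ℕ) (hi : i < l.length), Cond p P l[i].1 l[i].2.1 l[i].2.2 ∧
      rc (prodx (l.take i)) A ⊆ (l[i].1 : Set G) := by
  induction h with
  | nil A => intro i hi; simp at hi
  | @cons A H X x l hc hA _ ih =>
    intro i hi
    cases i with
    | zero =>
      simp only [List.getElem_cons_zero, List.take_zero, prodx_nil, rc_one]
      exact ⟨hc, hA⟩
    | succ i =>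
      have hi' : i < l.length := by simpa using hi
      obtain ⟨h1, h2⟩ := ih i hi'
      simp only [List.getElem_cons_succ, List.take_succ_cons, prodx_cons]
      refine ⟨h1, ?_⟩
      rw [rc_mul]
      exact h2

/-- `g` is good for `A`: `g = c * x₁ ⋯ xₙ * y` along a chain. -/
def Good (p : ℕ) (P : Subgroup G) (A : Set G) (g : G) : Prop :=
  ∃ (l : List (Trip G)) (c y : G), c ∈ centralizer A ∧ y ∈ normalizer (P : Set G) ∧
    Chain p P A l ∧ g = c * prodx l * y

theorem Good.mono {A B : Set G} {g : G} (h : Good p P A g) (hBA : B ⊆ A) : Good p P B g := by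
  obtain ⟨l, c, y, hc, hy, hl, rfl⟩ := h
  exact ⟨l, c, y, Subgroup.centralizer_le hBA hc, hy, hl.mono hBA, rfl⟩

theorem Good.of_centralizer {A : Set G} {c : G} (hc : c ∈ centralizer A) : Good p P A c :=
  ⟨[], c, 1, hc, one_mem _, Chain.nil A, by simp⟩

theorem Good.of_normalizer {A : Set G} {y : G} (hy : y ∈ normalizer (P : Set G)) :
    Good p P A y :=
  ⟨[], 1, y, one_mem _, hy, Chain.nil A, by simp⟩

theorem Good.single {H X : Subgroup G} {x : G} (hc : Cond p P H X x) : Good p P (H : Set G) x :=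
  ⟨[(H, X, x)], 1, 1, one_mem _, one_mem _, Chain.cons hc le_rfl (Chain.nil _), by simp⟩

theorem conj_mem_centralizer_of_rc {A : Set G} {g c : G} (hc : c ∈ centralizer (rc g A)) :
    g * c * g⁻¹ ∈ centralizer A := by
  rw [Subgroup.mem_centralizer_iff] at hc ⊢
  intro a ha
  have h1 := hc (g⁻¹ * a * g) (conj_mem_rc ha)
  have h2 : g⁻¹ * a * g * c = c * (g⁻¹ * a * g) := h1
  calc a * (g * c * g⁻¹) = g * (g⁻¹ * a * g * c) * g⁻¹ := by group
    _ = g * (c * (g⁻¹ * a * g)) * g⁻¹ := by rw [h2]
    _ = g * c * g⁻¹ * a := by group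

theorem Good.trans [Finite G] [Fact p.Prime] {A : Set G} {g h : G} (h1 : Good p P A g)
    (h2 : Good p P (rc g A) h) : Good p P A (g * h) := by
  obtain ⟨l₁, c₁, y₁, hc₁, hy₁, hl₁, hg⟩ := h1
  obtain ⟨l₂, c₂, y₂, hc₂, hy₂, hl₂, rfl⟩ := h2
  refine ⟨l₁ ++ l₂.map (conjT y₁), g * c₂ * g⁻¹ * c₁, y₁ * y₂, ?_, ?_, ?_, ?_⟩
  · exact mul_mem (conj_mem_centralizer_of_rc hc₂) hc₁
  · exact mul_mem hy₁ hy₂
  · apply hl₁.append
    have h3 := hl₂.conj hy₁
    have e : rc y₁⁻¹ (rc g A) = rc (prodx l₁) A := by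
      rw [← rc_mul, hg]
      have : c₁ * prodx l₁ * y₁ * y₁⁻¹ = c₁ * prodx l₁ := by group
      rw [this, rc_mul, rc_of_mem_centralizer hc₁]
    rw [e] at h3
    exact h3
  · rw [prodx_append, prodx_map_conjT]
    have : g * c₂ * g⁻¹ * c₁ * (prodx l₁ * (y₁ * prodx l₂ * y₁⁻¹)) * (y₁ * y₂) =
        g * c₂ * g⁻¹ * (c₁ * prodx l₁ * y₁) * prodx l₂ * y₂ := by group
    rw [this, ← hg]
    group

end Cfsg.Agent.Lib.Helper11.AGStrong
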