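import Cfsg.Agent.Lib.Helper11.AGStrong.Good
import Cfsg.Agent.Lib.Helper11.AGStrong.Gen

/-!
# Subgroups of `N_G(U)/U` versus subgroups of `G` between `U` and `N_G(U)`
-/

set_option autoImplicit false
set_option linter.unusedSectionVars false
set_option linter.unusedVariables false

namespace Cfsg.Agent.Lib.Helper11.AGStrong

open Cfsg Subgroup
open Cfsg.Agent.Lib.Helper33 (cj cj_def mem_cj mem_cj' card_cj cj_mul cj_mono cj_inf cj_sup
  cj_eq_self_iff)

variable {G : Type*} [Group G]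

theorem mem_normalizer_of_cj_le [Finite G] {H : Subgroup G} {g : G} (h : cj g H ≤ H) :
    g ∈ normalizer (H : Set G) := by
  rw [← cj_eq_self_iff]
  exact Subgroup.eq_of_le_of_card_ge h (card_cj g H).ge

section quot

variable (U : Subgroup G)

/-- the quotient map `N_G(U) → N_G(U)/U` -/
abbrev qmk : ↥(normalizer (U : Set G)) →*
    ↥(normalizer (U : Set G)) ⧸ U.subgroupOf (normalizer (U : Set G)) :=
  QuotientGroup.mk' (U.subgroupOf (normalizer (U : Set G)))

theorem qmk_surjective : Function.Surjective (qmk U) := QuotientGroup.mk'_surjective _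

theorem qmk_eq_one_iff (z : ↥(normalizer (U : Set G))) : qmk U z = 1 ↔ (z : G) ∈ U := by
  show (QuotientGroup.mk z : _ ⧸ U.subgroupOf (normalizer (U : Set G))) = 1 ↔ _
  rw [QuotientGroup.eq_one_iff, mem_subgroupOf]

theorem ker_qmk : (qmk U).ker = U.subgroupOf (normalizer (U : Set G)) := QuotientGroup.ker_mk' _

/-- the image of `Y` in `N_G(U)/U` -/
def img (Y : Subgroup G) :
    Subgroup (↥(normalizer (U : Set G)) ⧸ U.subgroupOf (normalizer (U : Set G))) :=
  (Y.subgroupOf (normalizer (U : Set G))).map (qmk U)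

/-- the preimage in `G` of a subgroup of `N_G(U)/U` -/
def pre (Q : Subgroup (↥(normalizer (U : Set G)) ⧸ U.subgroupOf (normalizer (U : Set G)))) :
    Subgroup G :=
  (Q.comap (qmk U)).map (normalizer (U : Set G)).subtype

variable {U}

theorem card_img {Y : Subgroup G} (hUY : U ≤ Y) (hYN : Y ≤ normalizer (U : Set G)) :
    Nat.card (img U Y) = U.relIndex Y := by
  have h1 := Subgroup.relIndex_map_map (qmk U) (U.subgroupOf (normalizer (U : Set G)))
    (Y.subgroupOf (normalizer (U : Set G)))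
  have h2 : (U.subgroupOf (normalizer (U : Set G))).map (qmk U) = ⊥ := by
    rw [Subgroup.map_eq_bot_iff, ker_qmk]
  have h3 : U.subgroupOf (normalizer (U : Set G)) ≤ Y.subgroupOf (normalizer (U : Set G)) := by
    intro z hz
    rw [mem_subgroupOf] at hz ⊢
    exact hUY hz
  rw [h2, ker_qmk, sup_idem, sup_eq_left.mpr h3, Subgroup.relIndex_bot_left,
    Subgroup.relIndex_subgroupOf hYN] at h1
  exact h1

theorem img_inf {Y₁ Y₂ : Subgroup G} (hUY : U ≤ Y₁) :
    img U (Y₁ ⊓ Y₂) = img U Y₁ ⊓ img U Y₂ := by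
  apply le_antisymm
  · rintro _ ⟨z, hz, rfl⟩
    rw [SetLike.mem_coe, mem_subgroupOf] at hz
    exact ⟨⟨z, by rw [SetLike.mem_coe, mem_subgroupOf]; exact hz.1, rfl⟩,
      ⟨z, by rw [SetLike.mem_coe, mem_subgroupOf]; exact hz.2, rfl⟩⟩
  · rintro γ ⟨⟨a, ha, rfl⟩, ⟨b, hb, hab⟩⟩
    rw [SetLike.mem_coe, mem_subgroupOf] at ha hb
    refine ⟨b, ?_, hab⟩
    rw [SetLike.mem_coe, mem_subgroupOf]
    refine ⟨?_, hb⟩
    have h1 : qmk U (a⁻¹ * b) = 1 := by
      rw [map_mul, map_inv, hab]; group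
    rw [qmk_eq_one_iff] at h1
    have h2 : ((a⁻¹ * b : ↥(normalizer (U : Set G))) : G) = (a : G)⁻¹ * b := rfl
    rw [h2] at h1
    have h3 : (b : G) = a * ((a : G)⁻¹ * b) := by group
    rw [h3]
    exact mul_mem ha (hUY h1)

theorem img_normal {Y : Subgroup G} (hYN : Y ≤ normalizer (U : Set G))
    (hn : normalizer (U : Set G) ≤ normalizer (Y : Set G)) : (img U Y).Normal := by
  have h1 : (Y.subgroupOf (normalizer (U : Set G))).Normal :=
    (Subgroup.normal_subgroupOf_iff_le_normalizer hYN).mpr hn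
  exact h1.map _ (qmk_surjective U)

theorem mem_pre {Q : Subgroup (↥(normalizer (U : Set G)) ⧸ U.subgroupOf (normalizer (U : Set G)))}
    {g : G} : g ∈ pre U Q ↔ ∃ h : g ∈ normalizer (U : Set G), qmk U ⟨g, h⟩ ∈ Q := by
  constructor
  · rintro ⟨z, hz, rfl⟩
    exact ⟨z.2, hz⟩
  · rintro ⟨h, hq⟩
    exact ⟨⟨g, h⟩, hq, rfl⟩

theorem le_pre (Q : Subgroup (↥(normalizer (U : Set G)) ⧸ U.subgroupOf (normalizer (U : Set G)))) :
    U ≤ pre U Q := by
  intro u hu
  rw [mem_pre]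
  refine ⟨Subgroup.le_normalizer hu, ?_⟩
  have : qmk U ⟨u, Subgroup.le_normalizer hu⟩ = 1 := by
    rw [qmk_eq_one_iff]; exact hu
  rw [this]; exact one_mem _

theorem pre_le_normalizer
    (Q : Subgroup (↥(normalizer (U : Set G)) ⧸ U.subgroupOf (normalizer (U : Set G)))) :
    pre U Q ≤ normalizer (U : Set G) := Subgroup.map_subtype_le _

theorem lt_pre {Q : Subgroup (↥(normalizer (U : Set G)) ⧸ U.subgroupOf (normalizer (U : Set G)))}
    (hQ : Q ≠ ⊥) : U < pre U Q := by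
  refine lt_of_le_of_ne (le_pre Q) ?_
  intro he
  apply hQ
  rw [eq_bot_iff]
  intro γ hγ
  obtain ⟨z, rfl⟩ := qmk_surjective U γ
  have h1 : (z : G) ∈ pre U Q := mem_pre.mpr ⟨z.2, hγ⟩
  rw [← he] at h1
  rw [Subgroup.mem_bot, qmk_eq_one_iff]
  exact h1

theorem pre_le_of_le_img {Q : Subgroup (↥(normalizer (U : Set G)) ⧸ U.subgroupOf (normalizer (U : Set G)))}
    {R : Subgroup G} (hUR : U ≤ R) (hQ : Q ≤ img U R) : pre U Q ≤ R := by
  intro g hg
  obtain ⟨h, hq⟩ := mem_pre.mp hg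
  obtain ⟨t, ht, hte⟩ := hQ hq
  rw [SetLike.mem_coe, mem_subgroupOf] at ht
  have h1 : qmk U (t⁻¹ * ⟨g, h⟩) = 1 := by
    rw [map_mul, map_inv, hte]; group
  rw [qmk_eq_one_iff] at h1
  have h2 : ((t⁻¹ * ⟨g, h⟩ : ↥(normalizer (U : Set G))) : G) = (t : G)⁻¹ * g := rfl
  rw [h2] at h1
  have h3 : g = t * ((t : G)⁻¹ * g) := by group
  rw [h3]
  exact mul_mem ht (hUR h1)

theorem mem_normalizer_pre [Finite G]
    {Q : Subgroup (↥(normalizer (U : Set G)) ⧸ U.subgroupOf (normalizer (U : Set G)))}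
    {z : ↥(normalizer (U : Set G))} (hz : qmk U z ∈ normalizer (Q : Set _)) :
    (z : G) ∈ normalizer ((pre U Q : Subgroup G) : Set G) := by
  apply mem_normalizer_of_cj_le
  intro g hg
  rw [mem_cj] at hg
  obtain ⟨h, hq⟩ := mem_pre.mp hg
  rw [mem_pre]
  have hgN : g ∈ normalizer (U : Set G) := by
    have : g = z * ((z : G)⁻¹ * g * z) * (z : G)⁻¹ := by group
    rw [this]
    exact mul_mem (mul_mem z.2 h) (inv_mem z.2)
  refine ⟨hgN, ?_⟩
  have e : (⟨g, hgN⟩ : ↥(normalizer (U : Set G))) = z * ⟨(z : G)⁻¹ * g * z, h⟩ * z⁻¹ := by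
    apply Subtype.ext
    show g = z * ((z : G)⁻¹ * g * z) * (z : G)⁻¹
    group
  rw [e, map_mul, map_mul, map_inv]
  exact (Subgroup.mem_normalizer_iff.mp hz _).mp hq

end quot

end Cfsg.Agent.Lib.Helper11.AGStrong
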