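import Cfsg.Agent.Lib.Helper11.AGStrong.Quot
import Cfsg.Agent.S3058
import Cfsg.Agent.Lib.Helper17.PGroupNorm
import Cfsg.Agent.Lib.Helper33.SecBasic
import Cfsg.Agent.Lib.Helper33.Pair
import Cfsg.Agent.Lib.Helper47.PIrr

/-!
# The inductive step of the strong Alperin–Goldschmidt theorem
-/

set_option autoImplicit false
set_option linter.unusedSectionVars false
set_option linter.unusedVariables false

namespace Cfsg.Agent.Lib.Helper11.AGStrong

open Cfsg Subgroup
open Cfsg.Agent.Lib.Helper33 (cj cj_def mem_cj mem_cj' card_cj cj_mul cj_mono cj_inf cj_sup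
  cj_eq_self_iff FN lG kG agFamily sylN mem_sylN
  rc rc_def mem_rc conj_mem_rc rc_one rc_mul rc_mono rc_coe rc_subset_of_mem_normalizer
  rc_of_mem_centralizer)

variable {G : Type*} [Group G]

theorem rc_eq_self {U : Subgroup G} {z : G} (hz : z ∈ normalizer (U : Set G)) :
    rc z (U : Set G) = U := by
  rw [rc_coe, cj_eq_self_iff.mpr (inv_mem hz)]

variable [Finite G] {p : ℕ} [Fact p.Prime] (P : Sylow p G) {U : Subgroup G}

/-- the image of `N_P(U)` in `N_G(U)/U`, as a Sylow subgroup -/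
noncomputable def sylBar (hfn : FN p (P : Subgroup G) U) :
    Sylow p (↥(normalizer (U : Set G)) ⧸ U.subgroupOf (normalizer (U : Set G))) :=
  (sylN P hfn).mapSurjective (qmk_surjective U)

theorem sylBar_eq (hfn : FN p (P : Subgroup G) U) :
    (sylBar P hfn : Subgroup (↥(normalizer (U : Set G)) ⧸ U.subgroupOf (normalizer (U : Set G)))) =
      img U (P : Subgroup G) := by
  ext γ
  constructor
  · rintro ⟨t, ht, rfl⟩
    exact ⟨t, by rw [SetLike.mem_coe, mem_subgroupOf]; exact (mem_sylN P hfn t).mp ht, rfl⟩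
  · rintro ⟨t, ht, rfl⟩
    rw [SetLike.mem_coe, mem_subgroupOf] at ht
    exact ⟨t, (mem_sylN P hfn t).mpr ht, rfl⟩

theorem sylBar_ne_bot (hfn : FN p (P : Subgroup G) U) (hlt : U < (P : Subgroup G)) :
    (sylBar P hfn : Subgroup (↥(normalizer (U : Set G)) ⧸ U.subgroupOf (normalizer (U : Set G)))) ≠ ⊥ := by
  have h1 := Cfsg.Agent.Lib.Helper17.lt_inf_normalizer_of_lt (P : Subgroup G) U P.isPGroup' hlt
  obtain ⟨t, ht, htU⟩ := SetLike.exists_of_lt h1
  intro hbot
  have h2 : qmk U ⟨t, ht.2⟩ ∈ (sylBar P hfn : Subgroup _) := by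
    rw [sylBar_eq]
    exact ⟨⟨t, ht.2⟩, by rw [SetLike.mem_coe, mem_subgroupOf]; exact ht.1, rfl⟩
  rw [hbot, Subgroup.mem_bot, qmk_eq_one_iff] at h2
  exact htU h2

/-- **The connected case.** -/
theorem step_connected (hUP : U ≤ (P : Subgroup G)) (hfn : FN p (P : Subgroup G) U)
    (hlt : U < (P : Subgroup G))
    (hconn : IsSylowChainConnected p
      (↥(normalizer (U : Set G)) ⧸ U.subgroupOf (normalizer (U : Set G))))
    (ih : ∀ (A : Set G) (g : G), A ⊆ (P : Subgroup G) → rc g A ⊆ (P : Subgroup G) →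
      Nat.card U < Nat.card (Subgroup.closure A) → Good p (P : Subgroup G) A g)
    (x : G) (hx : x ∈ normalizer (U : Set G)) : Good p (P : Subgroup G) (U : Set G) x := by
  have hT := sylBar_ne_bot P hfn hlt
  have hgen : ∀ γ ∈ gens (sylBar P hfn : Subgroup _), ∀ z : ↥(normalizer (U : Set G)),
      qmk U z = γ → Good p (P : Subgroup G) (U : Set G) z := by
    intro γ hγ z hz
    obtain ⟨Q, hQT, hQ, hn⟩ := hγ
    have h1 : U < pre U Q := lt_pre hQ
    have h2 : pre U Q ≤ (P : Subgroup G) :=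
      pre_le_of_le_img hUP (hQT.trans (sylBar_eq P hfn).le)
    have h3 : (z : G) ∈ normalizer ((pre U Q : Subgroup G) : Set G) := by
      apply mem_normalizer_pre
      rw [hz]; exact hn
    have h4 : Good p (P : Subgroup G) ((pre U Q : Subgroup G) : Set G) z := by
      apply ih
      · exact h2
      · exact (rc_subset_of_mem_normalizer h3 le_rfl).trans h2
      · rw [Subgroup.closure_eq]; exact card_lt_of_lt h1
    exact h4.mono h1.le
  have key : ∀ γ ∈ Subgroup.closure (gens (sylBar P hfn : Subgroup _)),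
      ∀ z : ↥(normalizer (U : Set G)), qmk U z = γ →
        Good p (P : Subgroup G) (U : Set G) z := by
    intro γ hγ
    induction hγ using Subgroup.closure_induction'' with
    | mem γ hγ => exact hgen γ hγ
    | inv_mem γ hγ => exact hgen _ (gens_inv hγ)
    | one =>
      intro z hz
      rw [qmk_eq_one_iff] at hz
      exact Good.of_normalizer (Subgroup.le_normalizer (hUP hz))
    | mul γ₁ γ₂ _ _ ih₁ ih₂ =>
      intro z hz
      obtain ⟨z₁, hz₁⟩ := qmk_surjective U γ₁
      have hz₂ : qmk U (z₁⁻¹ * z) = γ₂ := by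
        rw [map_mul, map_inv, hz₁, hz]; group
      have g1 := ih₁ z₁ hz₁
      have g2 := ih₂ _ hz₂
      have e : rc (z₁ : G) (U : Set G) = U := rc_eq_self z₁.2
      have g2' : Good p (P : Subgroup G) (rc (z₁ : G) (U : Set G))
          ((z₁⁻¹ * z : ↥(normalizer (U : Set G))) : G) := by
        rw [e]; exact g2
      have g3 := Good.trans g1 g2'
      have e2 : (z₁ : G) * ((z₁⁻¹ * z : ↥(normalizer (U : Set G))) : G) = z := by
        show (z₁ : G) * ((z₁ : G)⁻¹ * z) = z
        group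
      rw [e2] at g3
      exact g3
  exact key _ (mem_closure_gens_of_connected hconn _ hT _) ⟨x, hx⟩ rfl

/-- the family of candidates for `X` -/
def cand (p : ℕ) (U : Subgroup G) : Set (Subgroup G) :=
  {Y | U ≤ Y ∧ Y ≤ normalizer (U : Set G) ∧ normalizer (U : Set G) ≤ normalizer (Y : Set G) ∧
    p ∣ U.relIndex Y}

theorem cand_inf (hncc : ¬ IsSylowChainConnected p
      (↥(normalizer (U : Set G)) ⧸ U.subgroupOf (normalizer (U : Set G))))
    {Y₁ Y₂ : Subgroup G} (h1 : Y₁ ∈ cand p U) (h2 : Y₂ ∈ cand p U) : Y₁ ⊓ Y₂ ∈ cand p U := by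
  obtain ⟨a1, a2, a3, a4⟩ := h1
  obtain ⟨b1, b2, b3, b4⟩ := h2
  refine ⟨le_inf a1 b1, inf_le_left.trans a2, ?_, ?_⟩
  · intro n hn
    rw [← cj_eq_self_iff, cj_inf, cj_eq_self_iff.mpr (a3 hn), cj_eq_self_iff.mpr (b3 hn)]
  · rw [← card_img (le_inf a1 b1) (inf_le_left.trans a2), img_inf a1]
    haveI := img_normal a2 a3
    haveI := img_normal b2 b3
    apply Cfsg.Agent.S3058.result p hncc
    · rw [card_img a1 a2]; exact a4
    · rw [card_img b1 b2]; exact b4

theorem normalizer_mem_cand (hfn : FN p (P : Subgroup G) U) (hlt : U < (P : Subgroup G)) :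
    normalizer (U : Set G) ∈ cand p U := by
  refine ⟨Subgroup.le_normalizer, le_rfl, Subgroup.le_normalizer, ?_⟩
  have hT := sylBar_ne_bot P hfn hlt
  have h1 : p ∣ Nat.card ↥(sylBar P hfn : Subgroup
      (↥(normalizer (U : Set G)) ⧸ U.subgroupOf (normalizer (U : Set G)))) := by
    rcases (sylBar P hfn).isPGroup'.card_eq_or_dvd with h | h
    · exact absurd (Subgroup.card_eq_one.mp h) hT
    · exact h
  have h2 : Nat.card ↥(sylBar P hfn : Subgroup
      (↥(normalizer (U : Set G)) ⧸ U.subgroupOf (normalizer (U : Set G)))) ∣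
      Nat.card (↥(normalizer (U : Set G)) ⧸ U.subgroupOf (normalizer (U : Set G))) :=
    Subgroup.card_subgroup_dvd_card _
  have h3 : U.relIndex (normalizer (U : Set G)) =
      Nat.card (↥(normalizer (U : Set G)) ⧸ U.subgroupOf (normalizer (U : Set G))) :=
    Subgroup.index_eq_card _
  rw [h3]
  exact h1.trans h2

/-- existence of the smallest candidate -/
theorem exists_min_cand (hfn : FN p (P : Subgroup G) U) (hlt : U < (P : Subgroup G))
    (hncc : ¬ IsSylowChainConnected p
      (↥(normalizer (U : Set G)) ⧸ U.subgroupOf (normalizer (U : Set G)))) :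
    ∃ X ∈ cand p U, ∀ Y ∈ cand p U, X ≤ Y := by
  obtain ⟨X, hX, hXmin⟩ := Set.exists_min_image (cand p U) (fun Y => Nat.card Y)
    (Set.toFinite _) ⟨_, normalizer_mem_cand P hfn hlt⟩
  refine ⟨X, hX, ?_⟩
  intro Y hY
  have h1 := hXmin _ (cand_inf hncc hX hY)
  have h2 : X ⊓ Y = X := Subgroup.eq_of_le_of_card_ge inf_le_left h1
  rw [← h2]; exact inf_le_right

/-- **The disconnected case.** -/
theorem step_disconnected (hU : U ∈ agFamily P) (hlt : U < (P : Subgroup G))
    (hncc : ¬ IsSylowChainConnected p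
      (↥(normalizer (U : Set G)) ⧸ U.subgroupOf (normalizer (U : Set G))))
    (ih : ∀ (A : Set G) (g : G), A ⊆ (P : Subgroup G) → rc g A ⊆ (P : Subgroup G) →
      Nat.card U < Nat.card (Subgroup.closure A) → Good p (P : Subgroup G) A g)
    (x : G) (hx : x ∈ normalizer (U : Set G)) : Good p (P : Subgroup G) (U : Set G) x := by
  have hcentU : (P : Subgroup G) ⊓ centralizer (U : Set G) ≤ U :=
    (inf_le_inf_left _ hU.2.2.1).trans (Cfsg.Agent.Lib.Helper33.inf_lG_le P hU)
  obtain ⟨hUP, hfn, hcent, hk, hUl, hcomm, hbot, hsup⟩ := hU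
  have hUp : IsPGroup p U := P.isPGroup'.to_le hUP
  obtain ⟨X, ⟨hUX, hXN, hXn, hXp⟩, hXle⟩ := exists_min_cand P hfn hlt hncc
  have hlg : lG p U = U ⊔ centralizer (U : Set G) := by
    apply le_antisymm
    · rw [← hsup]
      exact sup_le ((Cfsg.Agent.Lib.Helper33.kG_le_centralizer hUp).trans le_sup_right) le_sup_left
    · exact sup_le hUl hcent
  have hcond : ∀ o, o ∈ (pResidual p ↥X).map X.subtype → Cond p (P : Subgroup G) U X o :=
    fun o ho =>
      { le := hUP, fn := hfn, cent := hcentU, lg := hlg, ncc := hncc, hX := hUX, XN := hXN,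
        Xn := hXn, Xp := hXp, Xmin := fun Y h1 h2 h3 h4 => hXle Y ⟨h1, h2, h3, h4⟩, mem := ho }
  -- the Sylow subgroup `R = P ∩ X` of `X`
  have hRi0 := Cfsg.Agent.Lib.Helper33.sylow_inf_normal (p := p) (N := normalizer (U : Set G))
    (R := (P : Subgroup G) ⊓ normalizer (U : Set G)) (C := X) inf_le_right
    (P.isPGroup'.to_le inf_le_left) hfn hXN hXn
  have hRe : (P : Subgroup G) ⊓ normalizer (U : Set G) ⊓ X = (P : Subgroup G) ⊓ X := by
    rw [inf_assoc, inf_eq_right.mpr hXN]
  rw [hRe] at hRi0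
  have hRp : IsPGroup p ((P : Subgroup G) ⊓ X : Subgroup G) := P.isPGroup'.to_le inf_le_left
  have hUR : U < (P : Subgroup G) ⊓ X := by
    refine lt_of_le_of_ne (le_inf hUP hUX) ?_
    intro he
    rw [← he] at hRi0
    exact hRi0 hXp
  obtain ⟨x₁, hx₁, n', hn', hxe⟩ := Cfsg.Agent.Lib.Helper33.frattini_gen
    (H := normalizer (U : Set G)) (M := X) (R := (P : Subgroup G) ⊓ X) hXn hXN inf_le_right
    hRp hRi0 hx
  -- decompose `x₁` in `X = O^p(X) R`
  have hRi' : ¬ p ∣ (((P : Subgroup G) ⊓ X).subgroupOf X).index := hRi0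
  have hTX := Cfsg.Agent.Lib.Helper47.pResidual_sup_sylow
    (IsPGroup.toSylow (P := ((P : Subgroup G) ⊓ X).subgroupOf X) hRp.comap_subtype hRi')
  haveI : (pResidual p ↥X).Normal := Cfsg.Agent.Lib.Helper47.pResidual_normal p ↥X
  have hx1 : (⟨x₁, hx₁⟩ : ↥X) ∈ pResidual p ↥X ⊔
      ((IsPGroup.toSylow (P := ((P : Subgroup G) ⊓ X).subgroupOf X) hRp.comap_subtype hRi' :
        Sylow p ↥X) : Subgroup ↥X) := by
    rw [hTX]; exact Subgroup.mem_top _
  obtain ⟨o, ho, r, hr, hor⟩ := Subgroup.mem_sup_of_normal_left.mp hx1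
  have hr' : (r : G) ∈ (P : Subgroup G) ⊓ X := by
    have := (IsPGroup.mem_toSylow _ _).mp hr
    exact mem_subgroupOf.mp this
  have hoX : (o : G) ∈ (pResidual p ↥X).map X.subtype := ⟨o, ho, rfl⟩
  have hxe2 : x = (o : G) * ((r : G) * n') := by
    have : (x₁ : G) = (o : G) * r := by
      have := congrArg Subtype.val hor
      exact this.symm
    rw [hxe, this, mul_assoc]
  have g1 : Good p (P : Subgroup G) (U : Set G) (o : G) := Good.single (hcond _ hoX)
  have hrn : (r : G) * n' ∈ normalizer (((P : Subgroup G) ⊓ X : Subgroup G) : Set G) :=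
    mul_mem (Subgroup.le_normalizer hr') hn'.2
  have g2 : Good p (P : Subgroup G) (((P : Subgroup G) ⊓ X : Subgroup G) : Set G)
      ((r : G) * n') := by
    apply ih
    · exact inf_le_left
    · exact (rc_subset_of_mem_normalizer hrn le_rfl).trans inf_le_left
    · rw [Subgroup.closure_eq]; exact card_lt_of_lt hUR
  have g2' : Good p (P : Subgroup G) (rc (o : G) (U : Set G)) ((r : G) * n') := by
    rw [rc_eq_self (hXN o.2)]
    exact g2.mono hUR.le
  rw [hxe2]
  exact Good.trans g1 g2'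

/-- **The inductive step.** -/
theorem step (hU : U ∈ agFamily P)
    (x : G) (hx : x ∈ normalizer (U : Set G))
    (ih : ∀ (A : Set G) (g : G), A ⊆ (P : Subgroup G) → rc g A ⊆ (P : Subgroup G) →
      Nat.card U < Nat.card (Subgroup.closure A) → Good p (P : Subgroup G) A g) :
    Good p (P : Subgroup G) (U : Set G) x := by
  by_cases hUP : U = (P : Subgroup G)
  · apply Good.of_normalizer
    rw [← hUP]; exact hx
  · have hlt : U < (P : Subgroup G) := lt_of_le_of_ne hU.1 hUP
    by_cases hconn : IsSylowChainConnected p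
        (↥(normalizer (U : Set G)) ⧸ U.subgroupOf (normalizer (U : Set G)))
    · exact step_connected P hU.1 hU.2.1 hlt hconn ih x hx
    · exact step_disconnected P hU hlt hconn ih x hx

/-- **Strong Alperin–Goldschmidt**, in `Good` form. -/
theorem good_of_subset (A : Set G) (g : G) (hA : A ⊆ (P : Subgroup G))
    (hAg : rc g A ⊆ (P : Subgroup G)) : Good p (P : Subgroup G) A g :=
  Cfsg.Agent.Lib.Helper33.ag_induction P (Good p (P : Subgroup G))
    (fun h hBA => h.mono hBA) (fun h1 h2 => h1.trans h2) (fun hc => Good.of_centralizer hc)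
    (fun U hU x hx ih => step P hU x hx ih) A g hA hAg

end Cfsg.Agent.Lib.Helper11.AGStrong
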